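import Mathlib
import Cfsg.Agent.S3993
import Cfsg.Agent.S0016
import Cfsg.Agent.Lib.Helper53.Quaternion

/-!
Finite groups in which the numbers of elements of each order take only the values `1` and `n`
(helper52).  Everything is derived from Frobenius' theorem on the number of solutions of
`x ^ m = 1`.
-/

set_option autoImplicit false

namespace Cfsg.Agent.Lib.Helper52

open Finset

/-- The number of elements of order `d`. -/
noncomputable def ordCount (G : Type*) [Group G] (d : ℕ) : ℕ := Nat.card {g : G // orderOf g = d}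

section
variable {G : Type*} [Group G] [Finite G]

theorem card_pow_eq_one_eq_sum (m : ℕ) (hm : m ≠ 0) :
    Nat.card {x : G // x ^ m = 1} = ∑ d ∈ m.divisors, ordCount G d := by
  classical
  have := Fintype.ofFinite G
  have h1 : Nat.card {x : G // x ^ m = 1} = (Finset.univ.filter (fun x : G => x ^ m = 1)).card := by
    rw [Nat.card_eq_fintype_card, Fintype.card_subtype]
  have h2 : ∀ d, ordCount G d = (Finset.univ.filter (fun x : G => orderOf x = d)).card := by
    intro d
    unfold ordCount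
    rw [Nat.card_eq_fintype_card, Fintype.card_subtype]
  rw [h1, Finset.card_eq_sum_card_fiberwise (f := orderOf) (t := m.divisors)]
  · apply Finset.sum_congr rfl
    intro d hd
    rw [h2]
    congr 1
    ext x
    simp only [Finset.mem_filter, Finset.mem_univ, true_and]
    constructor
    · exact fun h => h.2
    · intro h
      exact ⟨orderOf_dvd_iff_pow_eq_one.mp (h ▸ Nat.dvd_of_mem_divisors hd), h⟩
  · intro x hx
    have hx : x ^ m = 1 := by simpa using hx
    exact Finset.mem_coe.mpr (Nat.mem_divisors.mpr ⟨orderOf_dvd_of_pow_eq_one hx, hm⟩)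

/-- Frobenius' theorem in terms of the numbers of elements of given orders. -/
theorem dvd_sum_ordCount (m : ℕ) (hm : m ∣ Nat.card G) : m ∣ ∑ d ∈ m.divisors, ordCount G d := by
  have hm0 : m ≠ 0 := by
    rintro rfl
    exact Nat.card_pos.ne' (Nat.eq_zero_of_zero_dvd hm)
  rw [← card_pow_eq_one_eq_sum m hm0]
  exact Cfsg.Agent.S3993.result m hm

theorem sum_divisors_mul_coprime {a b : ℕ} (h : a.Coprime b) (f : ℕ → ℕ) :
    ∑ d ∈ (a * b).divisors, f d = ∑ x ∈ a.divisors, ∑ y ∈ b.divisors, f (x * y) := by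
  rw [h.divisors_mul, Finset.sum_map]
  show ∑ x ∈ (a.divisors ×ˢ b.divisors).attach, f (x.val.1 * x.val.2) = _
  rw [Finset.sum_attach (s := a.divisors ×ˢ b.divisors) (f := fun p => f (p.1 * p.2)),
    Finset.sum_product]

omit [Finite G] in
theorem ordCount_one : ordCount G 1 = 1 := by
  unfold ordCount
  rw [Nat.card_eq_one_iff_unique]
  refine ⟨⟨fun a b => Subtype.ext ?_⟩, ⟨⟨1, orderOf_one⟩⟩⟩
  rw [orderOf_eq_one_iff.mp a.2, orderOf_eq_one_iff.mp b.2]

theorem ordCount_ne_zero_iff (d : ℕ) : ordCount G d ≠ 0 ↔ ∃ g : G, orderOf g = d := by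
  unfold ordCount
  rw [Nat.card_ne_zero]
  constructor
  · rintro ⟨⟨g, hg⟩, -⟩
    exact ⟨g, hg⟩
  · rintro ⟨g, hg⟩
    exact ⟨⟨⟨g, hg⟩⟩, inferInstance⟩

omit [Finite G] in
theorem le_two_of_ordCount_eq_one {d : ℕ} (h : ordCount G d = 1) : d ≤ 2 := by
  unfold ordCount at h
  obtain ⟨hs, ⟨⟨g, hg⟩⟩⟩ := Nat.card_eq_one_iff_unique.mp h
  have h1 : (⟨g⁻¹, by rw [orderOf_inv]; exact hg⟩ : {g : G // orderOf g = d}) = ⟨g, hg⟩ :=
    Subsingleton.elim _ _
  have h2 : g⁻¹ = g := congrArg Subtype.val h1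
  have h3 : g ^ 2 = 1 := by
    rw [pow_two]
    nth_rewrite 1 [← h2]
    exact inv_mul_cancel g
  have h4 : orderOf g ∣ 2 := orderOf_dvd_of_pow_eq_one h3
  rw [hg] at h4
  exact Nat.le_of_dvd (by norm_num) h4

theorem nat_dvd_of_int_comb {p a b : ℕ} (ha : p ∣ a) (hb : p ∣ b) (u v : ℤ) (r : ℕ)
    (hr : (r : ℤ) = u * a + v * b) : p ∣ r := by
  have h1 : (p : ℤ) ∣ u * a + v * b :=
    Dvd.dvd.linear_comb (Int.natCast_dvd_natCast.mpr ha) (Int.natCast_dvd_natCast.mpr hb) u v
  rw [← hr] at h1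
  exact Int.natCast_dvd_natCast.mp h1

theorem prime_not_dvd_one {p : ℕ} (hp : p.Prime) : ¬ p ∣ 1 := fun h =>
  hp.one_lt.ne' (Nat.dvd_one.mp h)

theorem prime_not_dvd_two {p : ℕ} (hp : p.Prime) (h2 : p ≠ 2) : ¬ p ∣ 2 := fun h =>
  h2 ((Nat.prime_dvd_prime_iff_eq hp Nat.prime_two).mp h)

/-- The hypothesis: the numbers of elements of each order take only the values `1` and `n`. -/
structure SOData (G : Type*) [Group G] (n : ℕ) : Prop where
  val : ∀ d, ordCount G d = 0 ∨ ordCount G d = 1 ∨ ordCount G d = n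
  ex : ∃ g : G, ordCount G (orderOf g) = n
  ne : n ≠ 1

theorem soData_of_hyp (n : ℕ) (hn : n ≠ 1)
    (h : ((fun m : ℕ => Nat.card {g : G // orderOf g = m}) '' Set.range (orderOf : G → ℕ))
      = {1, n}) : SOData G n := by
  refine ⟨fun d => ?_, ?_, hn⟩
  · by_cases hd : ∃ g : G, orderOf g = d
    · right
      obtain ⟨g, hg⟩ := hd
      have h1 : ordCount G d ∈ ((fun m : ℕ => Nat.card {g : G // orderOf g = m}) ''
          Set.range (orderOf : G → ℕ)) := ⟨d, ⟨g, hg⟩, rfl⟩
      rw [h] at h1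
      simpa using h1
    · left
      by_contra h0
      exact hd ((ordCount_ne_zero_iff d).mp h0)
  · have h1 : n ∈ ((fun m : ℕ => Nat.card {g : G // orderOf g = m}) ''
        Set.range (orderOf : G → ℕ)) := by rw [h]; simp
    obtain ⟨d, ⟨g, rfl⟩, hd⟩ := h1
    exact ⟨g, hd⟩

omit [Finite G] in
theorem SOData.three_le {n : ℕ} (H : SOData G n) {d : ℕ} (hd : 3 ≤ d) :
    ordCount G d = 0 ∨ ordCount G d = n := by
  rcases H.val d with h | h | h
  · exact Or.inl h
  · have := le_two_of_ordCount_eq_one h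
    omega
  · exact Or.inr h

theorem SOData.of_orderOf {n : ℕ} (H : SOData G n) {d : ℕ} (hd : 3 ≤ d) (g : G)
    (hg : orderOf g = d) : ordCount G d = n := by
  rcases H.three_le hd with h | h
  · exact absurd h ((ordCount_ne_zero_iff d).mpr ⟨g, hg⟩)
  · exact h

theorem ordCount_prime_ne_zero {p : ℕ} (hp : p.Prime) (hpG : p ∣ Nat.card G) :
    ordCount G p ≠ 0 := by
  have : Fact p.Prime := ⟨hp⟩
  obtain ⟨g, hg⟩ := exists_prime_orderOf_dvd_card' p hpG
  exact (ordCount_ne_zero_iff p).mpr ⟨g, hg⟩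

/-- For an odd prime divisor `p` of the order, there are `n` elements of order `p`, and
`p ∣ 1 + n`. -/
theorem SOData.odd_prime {n : ℕ} (H : SOData G n) {p : ℕ} (hp : p.Prime) (hp2 : p ≠ 2)
    (hpG : p ∣ Nat.card G) : ordCount G p = n ∧ p ∣ 1 + n := by
  have h3 : 3 ≤ p := by
    have := hp.two_le
    omega
  have h1 : ordCount G p = n := by
    rcases H.three_le h3 with h | h
    · exact absurd h (ordCount_prime_ne_zero hp hpG)
    · exact h
  refine ⟨h1, ?_⟩
  have h2 := dvd_sum_ordCount (G := G) p hpG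
  rw [Nat.Prime.sum_divisors hp, h1, ordCount_one, add_comm] at h2
  exact h2

/-- No elements of order `p ^ 2` for odd `p`. -/
theorem SOData.no_sq {n : ℕ} (H : SOData G n) {p : ℕ} (hp : p.Prime) (hp2 : p ≠ 2)
    (g : G) : orderOf g ≠ p ^ 2 := by
  intro hg
  have hpG2 : p ^ 2 ∣ Nat.card G := hg ▸ orderOf_dvd_natCard g
  have hpG : p ∣ Nat.card G := (dvd_pow_self p (by norm_num)).trans hpG2
  obtain ⟨h1, h2⟩ := H.odd_prime hp hp2 hpG
  have h3 : 3 ≤ p ^ 2 := by
    have := hp.two_le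
    nlinarith
  have h4 := H.of_orderOf h3 g hg
  have h5 := dvd_sum_ordCount (G := G) (p ^ 2) hpG2
  rw [Nat.sum_divisors_prime_pow hp, Finset.sum_range_succ, Finset.sum_range_succ,
    Finset.sum_range_one, pow_zero, pow_one, ordCount_one, h1, h4] at h5
  have h6 : p ∣ 1 + n + n := (dvd_pow_self p (by norm_num)).trans h5
  exact prime_not_dvd_one hp (nat_dvd_of_int_comb h2 h6 2 (-1) 1 (by push_cast; ring))

/-- At most one odd prime divides the order. -/
theorem SOData.odd_prime_unique {n : ℕ} (H : SOData G n) {p q : ℕ} (hp : p.Prime) (hp2 : p ≠ 2)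
    (hq : q.Prime) (hq2 : q ≠ 2) (hpG : p ∣ Nat.card G) (hqG : q ∣ Nat.card G) : p = q := by
  by_contra hpq
  have hcop : p.Coprime q := (Nat.coprime_primes hp hq).mpr hpq
  obtain ⟨h1, h2⟩ := H.odd_prime hp hp2 hpG
  obtain ⟨h1', h2'⟩ := H.odd_prime hq hq2 hqG
  have hpqG : p * q ∣ Nat.card G := hcop.mul_dvd_of_dvd_of_dvd hpG hqG
  have h5 := dvd_sum_ordCount (G := G) (p * q) hpqG
  rw [sum_divisors_mul_coprime hcop, Nat.Prime.sum_divisors hp] at h5
  simp only [Nat.Prime.sum_divisors hq, mul_one, one_mul] at h5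
  rw [ordCount_one, h1, h1'] at h5
  have h6 : p ∣ ordCount G (p * q) + n + (n + 1) := (dvd_mul_right p q).trans h5
  have h3 : 3 ≤ p * q := by
    have := hp.two_le
    have := hq.two_le
    nlinarith
  rcases H.three_le h3 with h | h
  · rw [h] at h6
    exact prime_not_dvd_one hp (nat_dvd_of_int_comb h2 h6 2 (-1) 1 (by push_cast; ring))
  · rw [h] at h6
    exact prime_not_dvd_two hp hp2 (nat_dvd_of_int_comb h2 h6 3 (-1) 2 (by push_cast; ring))

omit [Finite G] in
/-- If there is no element of order `p ^ (j + 1)` then `p`-elements have order dividing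
`p ^ j`. -/
theorem pow_prime_pow_eq_one_of_no {p : ℕ} (hp : p.Prime) (j : ℕ)
    (hno : ∀ x : G, orderOf x ≠ p ^ (j + 1)) (g : G) (k : ℕ) (hg : orderOf g = p ^ k) :
    g ^ p ^ j = 1 := by
  by_cases hk : k ≤ j
  · apply orderOf_dvd_iff_pow_eq_one.mp
    rw [hg]
    exact pow_dvd_pow p hk
  · exfalso
    apply hno (g ^ p ^ (k - (j + 1)))
    rw [orderOf_pow_of_dvd (pow_ne_zero _ hp.ne_zero) (hg ▸ pow_dvd_pow p (by omega)), hg,
      Nat.pow_div (by omega) hp.pos]
    congr 1
    omega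

/-- The group has at least three elements, and the value `n` is at least two. -/
theorem SOData.three_le_card {n : ℕ} (H : SOData G n) : 3 ≤ Nat.card G := by
  classical
  obtain ⟨g, hg⟩ := H.ex
  have hg1 : orderOf g ≠ 1 := by
    intro h
    rw [h, ordCount_one] at hg
    exact H.ne hg.symm
  have hn0 : n ≠ 0 := by
    rw [← hg]
    exact (ordCount_ne_zero_iff _).mpr ⟨g, rfl⟩
  have hn2 : 1 < Nat.card {x : G // orderOf x = orderOf g} := by
    have h1 : Nat.card {x : G // orderOf x = orderOf g} = n := hg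
    have h2 := H.ne
    omega
  obtain ⟨⟨x, hx⟩, ⟨y, hy⟩, hxy⟩ := (Finite.one_lt_card_iff_nontrivial.mp hn2).exists_pair_ne
  have := Fintype.ofFinite G
  rw [Nat.card_eq_fintype_card]
  refine Fintype.two_lt_card_iff.mpr ⟨1, x, y, ?_, ?_, fun h => hxy (Subtype.ext h)⟩
  · rintro rfl
    rw [orderOf_one] at hx
    exact hg1 hx.symm
  · rintro rfl
    rw [orderOf_one] at hy
    exact hg1 hy.symm

/-- The case of a `p`-group without elements of order `p ^ 2`. -/
theorem SOData.case_pgroup {n : ℕ} (H : SOData G n) {p : ℕ} (hp : p.Prime) (hG : IsPGroup p G)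
    (hno : ∀ x : G, orderOf x ≠ p ^ 2) :
    IsPGroup p G ∧ 3 ≤ Nat.card G ∧ Monoid.exponent G = p := by
  have : Fact p.Prime := ⟨hp⟩
  refine ⟨hG, H.three_le_card, ?_⟩
  have h1 : ∀ g : G, g ^ p = 1 := by
    intro g
    obtain ⟨k, hk⟩ := IsPGroup.iff_orderOf.mp hG g
    have h2 := pow_prime_pow_eq_one_of_no hp 1 hno g k hk
    rwa [pow_one] at h2
  have h2 : Monoid.exponent G ∣ p := Monoid.exponent_dvd_of_forall_pow_eq_one h1
  rcases (Nat.dvd_prime hp).mp h2 with h3 | h3
  · exfalso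
    have h4 : Subsingleton G := Monoid.exp_eq_one_iff.mp h3
    have h5 : Nat.card G ≤ 1 := Finite.card_le_one_iff_subsingleton.mpr h4
    have h6 := H.three_le_card
    omega
  · exact h3

/-- The case of a `2`-group. -/
theorem SOData.case_two_group {n : ℕ} (H : SOData G n) (hG : IsPGroup 2 G) :
    (IsPGroup 2 G ∧ 3 ≤ Nat.card G ∧ Monoid.exponent G = 2) ∨
      Nonempty (G ≃* QuaternionGroup 2) ∨ (IsCyclic G ∧ Nat.card G = 4) := by
  have : Fact (Nat.Prime 2) := ⟨Nat.prime_two⟩
  by_cases hno : ∀ x : G, orderOf x ≠ 2 ^ 2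
  · exact Or.inl (H.case_pgroup Nat.prime_two hG hno)
  right
  simp only [not_forall, not_not] at hno
  obtain ⟨g, hg⟩ := hno
  have hc4 : ordCount G (2 ^ 2) = n := H.of_orderOf (by norm_num) g hg
  have h4G : 2 ^ 2 ∣ Nat.card G := hg ▸ orderOf_dvd_natCard g
  have h2G : 2 ∣ Nat.card G := (dvd_pow_self 2 (by norm_num)).trans h4G
  have hc2 : ordCount G 2 ≠ 0 := ordCount_prime_ne_zero Nat.prime_two h2G
  have hN4 := dvd_sum_ordCount (G := G) (2 ^ 2) h4G
  rw [Nat.sum_divisors_prime_pow Nat.prime_two, Finset.sum_range_succ, Finset.sum_range_succ,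
    Finset.sum_range_one, pow_zero, pow_one, ordCount_one, hc4] at hN4
  have hc2' : ordCount G 2 = 1 := by
    rcases H.val 2 with h | h | h
    · exact absurd h hc2
    · exact h
    · rw [h] at hN4
      omega
  rw [hc2'] at hN4
  have hno8 : ∀ x : G, orderOf x ≠ 2 ^ (2 + 1) := by
    intro x hx
    have hc8 : ordCount G (2 ^ (2 + 1)) = n := H.of_orderOf (by norm_num) x hx
    have h8G : 2 ^ (2 + 1) ∣ Nat.card G := hx ▸ orderOf_dvd_natCard x
    have hN8 := dvd_sum_ordCount (G := G) (2 ^ (2 + 1)) h8G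
    rw [Nat.sum_divisors_prime_pow Nat.prime_two, Finset.sum_range_succ, Finset.sum_range_succ,
      Finset.sum_range_succ, Finset.sum_range_one, pow_zero, pow_one, ordCount_one, hc4, hc2',
      hc8] at hN8
    omega
  have hexp : ∀ x : G, x ^ 2 ^ 2 = 1 := by
    intro x
    obtain ⟨k, hk⟩ := IsPGroup.iff_orderOf.mp hG x
    exact pow_prime_pow_eq_one_of_no Nat.prime_two 2 hno8 x k hk
  have huniq : ∃! x : G, orderOf x = 2 := by
    unfold ordCount at hc2'
    obtain ⟨hs, ⟨⟨z, hz⟩⟩⟩ := Nat.card_eq_one_iff_unique.mp hc2'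
    refine ⟨z, hz, fun y hy => ?_⟩
    have h1 : (⟨y, hy⟩ : {g : G // orderOf g = 2}) = ⟨z, hz⟩ := Subsingleton.elim _ _
    exact congrArg Subtype.val h1
  rcases Cfsg.Agent.S0016.result 2 hG
    (Cfsg.Agent.Lib.Helper53.uniq_subgroup_of_uniq_involution huniq) with hcyc | ⟨-, k, ⟨e⟩⟩
  · right
    refine ⟨hcyc, ?_⟩
    obtain ⟨g₀, hg₀⟩ := hcyc.exists_generator
    have h1 : orderOf g₀ = Nat.card G := orderOf_eq_card_of_forall_mem_zpowers hg₀
    have h2 : orderOf g₀ ∣ 2 ^ 2 := orderOf_dvd_of_pow_eq_one (hexp g₀)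
    rw [h1] at h2
    have h3 := Nat.dvd_antisymm h2 h4G
    rw [h3]
    norm_num
  · have h1 : orderOf (e.symm (QuaternionGroup.a 1)) = 2 * 2 ^ k := by
      rw [MulEquiv.orderOf_eq, QuaternionGroup.orderOf_a_one]
    have h2 : orderOf (e.symm (QuaternionGroup.a 1)) ∣ 2 ^ 2 :=
      orderOf_dvd_of_pow_eq_one (hexp _)
    rw [h1] at h2
    have h3 : 2 * 2 ^ k ≤ 2 ^ 2 := Nat.le_of_dvd (by norm_num) h2
    have hk : k ≤ 1 := by
      by_contra hk
      have h4 : 2 ^ 2 ≤ 2 ^ k := Nat.pow_le_pow_right (by norm_num) (by omega)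
      omega
    rcases Nat.le_one_iff_eq_zero_or_eq_one.mp hk with rfl | rfl
    · right
      have e' : G ≃* QuaternionGroup 1 := e
      have hc1 : IsCyclic (QuaternionGroup 1) := QuaternionGroup.quaternionGroup_one_isCyclic
      refine ⟨isCyclic_of_surjective e'.symm.toMonoidHom e'.symm.surjective, ?_⟩
      rw [Nat.card_congr e'.toEquiv, Nat.card_eq_fintype_card, QuaternionGroup.card]
    · left
      have e' : G ≃* QuaternionGroup 2 := e
      exact ⟨e'⟩

/-- The mixed case: the order is divisible by `2` and by an odd prime `p`. -/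
theorem SOData.case_mixed {n : ℕ} (H : SOData G n) (h2G : 2 ∣ Nat.card G) {p : ℕ}
    (hp : p.Prime) (hp2 : p ≠ 2) (hpG : p ∣ Nat.card G) :
    ∃ (P : Type) (_ : Group P) (_ : Finite P), IsPGroup p P ∧ Monoid.exponent P = p ∧
      Nonempty (G ≃* Multiplicative (ZMod 2) × P) := by
  have : Fact p.Prime := ⟨hp⟩
  have : Fact (Nat.Prime 2) := ⟨Nat.prime_two⟩
  obtain ⟨hcp, hp1n⟩ := H.odd_prime hp hp2 hpG
  have hc2 : ordCount G 2 ≠ 0 := ordCount_prime_ne_zero Nat.prime_two h2G
  have hcop : Nat.Coprime 2 p := (Nat.coprime_primes Nat.prime_two hp).mpr (Ne.symm hp2)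
  have h3p : 3 ≤ p := by
    have := hp.two_le
    omega
  -- Frobenius for `2 * p`
  have hN := dvd_sum_ordCount (G := G) (2 * p) (hcop.mul_dvd_of_dvd_of_dvd h2G hpG)
  rw [sum_divisors_mul_coprime hcop, Nat.Prime.sum_divisors Nat.prime_two] at hN
  simp only [Nat.Prime.sum_divisors hp, mul_one, one_mul] at hN
  rw [ordCount_one, hcp] at hN
  have hN' : p ∣ ordCount G (2 * p) + ordCount G 2 + (n + 1) := (dvd_mul_left p 2).trans hN
  have hc2' : ordCount G 2 = 1 ∧ ordCount G (2 * p) = n := by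
    rcases H.three_le (d := 2 * p) (by omega) with h | h <;> rcases H.val 2 with h' | h' | h'
    · exact absurd h' hc2
    · rw [h, h'] at hN'
      exact absurd (nat_dvd_of_int_comb hN' hp1n 1 (-1) 1 (by push_cast; ring))
        (prime_not_dvd_one hp)
    · rw [h, h'] at hN'
      exact absurd (nat_dvd_of_int_comb hN' hp1n (-1) 2 1 (by push_cast; ring))
        (prime_not_dvd_one hp)
    · exact absurd h' hc2
    · exact ⟨h', h⟩
    · rw [h, h'] at hN'
      exact absurd (nat_dvd_of_int_comb hN' hp1n (-1) 3 2 (by push_cast; ring))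
        (prime_not_dvd_two hp hp2)
  obtain ⟨hc2', hc2p⟩ := hc2'
  -- no elements of order four
  have hno4 : ∀ x : G, orderOf x ≠ 2 ^ 2 := by
    intro x hx
    have hc4 : ordCount G (2 ^ 2) = n := H.of_orderOf (by norm_num) x hx
    have h4G : 2 ^ 2 ∣ Nat.card G := hx ▸ orderOf_dvd_natCard x
    have hcop4 : Nat.Coprime (2 ^ 2) p := Nat.Coprime.pow_left 2 hcop
    have hN4 := dvd_sum_ordCount (G := G) (2 ^ 2 * p) (hcop4.mul_dvd_of_dvd_of_dvd h4G hpG)
    rw [sum_divisors_mul_coprime hcop4, Nat.sum_divisors_prime_pow Nat.prime_two] at hN4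
    simp only [Nat.Prime.sum_divisors hp, Finset.sum_range_succ, Finset.sum_range_zero, zero_add,
      pow_zero, pow_one, mul_one, one_mul] at hN4
    rw [ordCount_one, hcp, hc2', hc2p, hc4] at hN4
    have hN4' : p ∣ n + 1 + (n + 1) + (ordCount G (2 ^ 2 * p) + n) :=
      (dvd_mul_left p (2 ^ 2)).trans hN4
    rcases H.three_le (d := 2 ^ 2 * p) (by omega) with h | h
    · rw [h] at hN4'
      exact absurd (nat_dvd_of_int_comb hN4' hp1n (-1) 3 1 (by push_cast; ring))
        (prime_not_dvd_one hp)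
    · rw [h] at hN4'
      exact absurd (nat_dvd_of_int_comb hN4' hp1n (-1) 4 2 (by push_cast; ring))
        (prime_not_dvd_two hp hp2)
  -- the unique involution
  obtain ⟨z, hz, hzu⟩ : ∃ z : G, orderOf z = 2 ∧ ∀ y : G, orderOf y = 2 → y = z := by
    unfold ordCount at hc2'
    obtain ⟨hs, ⟨⟨z, hz⟩⟩⟩ := Nat.card_eq_one_iff_unique.mp hc2'
    refine ⟨z, hz, fun y hy => ?_⟩
    have h1 : (⟨y, hy⟩ : {g : G // orderOf g = 2}) = ⟨z, hz⟩ := Subsingleton.elim _ _
    exact congrArg Subtype.val h1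
  have hzc : ∀ g : G, g * z = z * g := by
    intro g
    have h1 : orderOf (g * z * g⁻¹) = 2 := by
      have h2 := orderOf_injective (MulAut.conj g).toMonoidHom (MulAut.conj g).injective z
      rw [← hz, ← h2]
      rfl
    have h3 := hzu _ h1
    calc g * z = g * z * g⁻¹ * g := by group
      _ = z * g := by rw [h3]
  have h4G : ¬ 2 ^ 2 ∣ Nat.card G := by
    intro h
    obtain ⟨K, hK⟩ := Sylow.exists_subgroup_card_pow_prime 2 h
    have hKle : K ≤ Subgroup.zpowers z := by
      intro x hx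
      have h1 : orderOf x ∣ 2 ^ 2 := hK ▸ Subgroup.orderOf_dvd_natCard K hx
      obtain ⟨j, hj, hj'⟩ := (Nat.dvd_prime_pow Nat.prime_two).mp h1
      have hj2 : j ≠ 2 := by
        rintro rfl
        exact hno4 x hj'
      have hj01 : j = 0 ∨ j = 1 := by omega
      rcases hj01 with rfl | rfl
      · rw [pow_zero, orderOf_eq_one_iff] at hj'
        rw [hj']
        exact one_mem _
      · rw [pow_one] at hj'
        rw [hzu x hj']
        exact Subgroup.mem_zpowers z
    have h2 := Subgroup.card_le_of_le hKle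
    rw [hK, Nat.card_zpowers, hz] at h2
    norm_num at h2
  -- a Sylow `p`-subgroup has index two
  obtain ⟨P⟩ : Nonempty (Sylow p G) := inferInstance
  have hPcard : Nat.card P * (P : Subgroup G).index = Nat.card G := (P : Subgroup G).card_mul_index
  obtain ⟨b, hb⟩ := IsPGroup.iff_card.mp P.2
  have hidx : (P : Subgroup G).index = 2 := by
    have h0 : (P : Subgroup G).index ≠ 0 := Subgroup.index_ne_zero_of_finite
    have h1 := Nat.eq_prime_pow_of_unique_prime_dvd (p := 2) h0 (fun {d} hd hdi => by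
      by_contra hd2
      have hdG : d ∣ Nat.card G := hdi.trans (Subgroup.index_dvd_card _)
      have hdp := H.odd_prime_unique hd hd2 hp hp2 hdG hpG
      rw [hdp] at hdi
      exact P.not_dvd_index hdi)
    generalize (P : Subgroup G).index.primeFactorsList.length = k at h1
    have h2i : 2 ∣ (P : Subgroup G).index := by
      have h5 : 2 ∣ Nat.card P * (P : Subgroup G).index := hPcard ▸ h2G
      have h6 : Nat.Coprime 2 (Nat.card P) := by
        rw [hb]
        exact Nat.Coprime.pow_right b hcop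
      exact h6.dvd_of_dvd_mul_left h5
    have hk2 : k < 2 := by
      by_contra hk
      apply h4G
      have h7 : 2 ^ 2 ∣ (P : Subgroup G).index := by
        rw [h1]
        exact pow_dvd_pow 2 (by omega)
      exact h7.trans (Subgroup.index_dvd_card _)
    have hk01 : k = 0 ∨ k = 1 := by omega
    rcases hk01 with rfl | rfl
    · rw [h1] at h2i
      norm_num at h2i
    · rw [h1, pow_one]
  have hPn : (P : Subgroup G).Normal := Subgroup.normal_of_index_eq_two hidx
  -- the internal direct product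
  have hzcard : Nat.card (Subgroup.zpowers z) = 2 := by rw [Nat.card_zpowers, hz]
  have hcomm : ∀ (a : Subgroup.zpowers z) (c : (P : Subgroup G)),
      Commute ((Subgroup.zpowers z).subtype a) ((P : Subgroup G).subtype c) := by
    rintro ⟨a, ha⟩ c
    obtain ⟨i, rfl⟩ := Subgroup.mem_zpowers_iff.mp ha
    have h1 : Commute z (c : G) := (hzc c).symm
    exact h1.zpow_left i
  have hinj : Function.Injective (MonoidHom.noncommCoprod (Subgroup.zpowers z).subtype
      (P : Subgroup G).subtype hcomm) := by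
    rw [injective_iff_map_eq_one]
    rintro ⟨a, c⟩ hac
    rw [MonoidHom.noncommCoprod_apply] at hac
    have hac' : (a : G) * (c : G) = 1 := hac
    have ha : (a : G) = (c : G)⁻¹ := eq_inv_of_mul_eq_one_left hac'
    have h1 : orderOf (a : G) ∣ 2 := by
      rw [← hzcard]
      exact Subgroup.orderOf_dvd_natCard _ a.2
    have h2 : orderOf (a : G) ∣ p ^ b := by
      rw [← hb, ha, orderOf_inv]
      exact Subgroup.orderOf_dvd_natCard _ c.2
    have h3 : orderOf (a : G) = 1 :=
      Nat.Coprime.eq_one_of_dvd (Nat.Coprime.coprime_dvd_left h1 (Nat.Coprime.pow_right b hcop)) h2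
    have ha1 : (a : G) = 1 := orderOf_eq_one_iff.mp h3
    have hc1 : (c : G) = 1 := by
      rw [ha1, one_mul] at hac'
      exact hac'
    exact Prod.ext (Subtype.ext ha1) (Subtype.ext hc1)
  have hbij : Function.Bijective (MonoidHom.noncommCoprod (Subgroup.zpowers z).subtype
      (P : Subgroup G).subtype hcomm) := by
    rw [Nat.bijective_iff_injective_and_card]
    refine ⟨hinj, ?_⟩
    rw [Nat.card_prod, hzcard, ← hPcard, hidx, mul_comm]
  have e₂ : Subgroup.zpowers z ≃* Multiplicative (ZMod 2) :=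
    mulEquivOfPrimeCardEq (p := 2) hzcard (by simp)
  have hfin : Finite (Shrink.{0} (P : Subgroup G)) := Finite.of_equiv _ (equivShrink _)
  have eS : Shrink.{0} (P : Subgroup G) ≃* (P : Subgroup G) := Shrink.mulEquiv
  refine ⟨Shrink.{0} (P : Subgroup G), inferInstance, hfin, ?_, ?_, ?_⟩
  · exact P.2.of_equiv eS.symm
  · rw [Monoid.exponent_eq_of_mulEquiv eS]
    have h1 : ∀ x : (P : Subgroup G), x ^ p = 1 := by
      intro x
      obtain ⟨k, hk⟩ := IsPGroup.iff_orderOf.mp P.2 x
      have hk' : orderOf (x : G) = p ^ k := by rw [Subgroup.orderOf_coe]; exact hk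
      have h2 := pow_prime_pow_eq_one_of_no hp 1 (H.no_sq hp hp2) (x : G) k hk'
      rw [pow_one] at h2
      exact Subtype.ext h2
    have h2 : Monoid.exponent (P : Subgroup G) ∣ p := Monoid.exponent_dvd_of_forall_pow_eq_one h1
    rcases (Nat.dvd_prime hp).mp h2 with h3 | h3
    · exfalso
      have h4 : Subsingleton (P : Subgroup G) := Monoid.exp_eq_one_iff.mp h3
      have h5 : Nat.card (P : Subgroup G) ≤ 1 := Finite.card_le_one_iff_subsingleton.mpr h4
      have h6 : p ∣ Nat.card (P : Subgroup G) := P.dvd_card_of_dvd_card hpG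
      have h7 := Nat.le_of_dvd Nat.card_pos h6
      omega
    · exact h3
  · exact ⟨(MulEquiv.ofBijective _ hbij).symm.trans
      (MulEquiv.prodCongr e₂ eS.symm)⟩

/-- Finite groups whose numbers of elements of each order take exactly the values `1`
and `n ≠ 1`. -/
theorem same_order_main (n : ℕ) (hn : n ≠ 1)
    (h : ((fun m : ℕ => Nat.card {g : G // orderOf g = m}) '' Set.range (orderOf : G → ℕ))
      = {1, n}) :
    (∃ p : ℕ, p.Prime ∧ IsPGroup p G ∧ 3 ≤ Nat.card G ∧ Monoid.exponent G = p) ∨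
      Nonempty (G ≃* QuaternionGroup 2) ∨ (IsCyclic G ∧ Nat.card G = 4) ∨
      (∃ (p : ℕ) (P : Type) (_ : Group P) (_ : Finite P), p.Prime ∧ p ≠ 2 ∧ IsPGroup p P ∧
        Monoid.exponent P = p ∧ Nonempty (G ≃* Multiplicative (ZMod 2) × P)) := by
  have H := soData_of_hyp n hn h
  by_cases h2 : 2 ∣ Nat.card G
  · by_cases hodd : ∃ p : ℕ, p.Prime ∧ p ≠ 2 ∧ p ∣ Nat.card G
    · obtain ⟨p, hp, hp2, hpG⟩ := hodd
      obtain ⟨P, i1, i2, h1, h2, h3⟩ := H.case_mixed h2 hp hp2 hpG
      exact Or.inr (Or.inr (Or.inr ⟨p, P, i1, i2, hp, hp2, h1, h2, h3⟩))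
    · have hG : IsPGroup 2 G := by
        have h1 := Nat.eq_prime_pow_of_unique_prime_dvd (p := 2) (Nat.card_pos (α := G)).ne'
          (fun {d} hd hdG => by
            by_contra hd2
            exact hodd ⟨d, hd, hd2, hdG⟩)
        exact IsPGroup.of_card h1
      rcases H.case_two_group hG with ⟨a, b, c⟩ | h | h
      · exact Or.inl ⟨2, Nat.prime_two, a, b, c⟩
      · exact Or.inr (Or.inl h)
      · exact Or.inr (Or.inr (Or.inl h))
  · have hcard : Nat.card G ≠ 1 := by
      have := H.three_le_card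
      omega
    obtain ⟨p, hp, hpG⟩ := Nat.exists_prime_and_dvd hcard
    have hp2 : p ≠ 2 := by
      rintro rfl
      exact h2 hpG
    have hG : IsPGroup p G := by
      have h1 := Nat.eq_prime_pow_of_unique_prime_dvd (p := p) (Nat.card_pos (α := G)).ne'
        (fun {d} hd hdG => H.odd_prime_unique hd (by rintro rfl; exact h2 hdG) hp hp2 hdG hpG)
      exact IsPGroup.of_card h1
    exact Or.inl ⟨p, hp, H.case_pgroup hp hG (H.no_sq hp hp2)⟩

end

end Cfsg.Agent.Lib.Helper52
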